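import Cfsg.Agent.H447.Co.K
import Mathlib.LinearAlgebra.Matrix.Determinant.Basic
import Mathlib.GroupTheory.PGroup

/-!
# S5227: centralisers of the regular elements of `T` (task `Lin.reg`)

Let `x = t(a,b,c)` with `a, b ≠ 0` (two Jordan blocks of size three on `V`).  The centraliser of `x` acts on `V / im (x - 1)`, a space with
nine elements, and the elements acting unipotently there are unipotent.  So the Sylow 3-subgroups of a group centralising `x` correspond
to some of the four lines of the dual of this space.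
-/

set_option autoImplicit false
set_option linter.style.longLine false

namespace Cfsg.Agent.H447.Co

open Cfsg.Agent.H776.Co.Lin Subgroup Matrix

theorem sq_eq_one {a : ZMod 3} (ha : a ≠ 0) : a ^ 2 = 1 := by revert a; decide

/-- the difference -/
def dd (g : L) (v : V) : V := g v - v

theorem dd_cube (g : L) (v : V) : dd (g ^ 3) v = dd g (dd g (dd g v)) := by
  have h3 : ∀ w : V, 3 • w = 0 := fun w => by
    funext i
    simp only [Pi.smul_apply, Pi.zero_apply]
    generalize w i = t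
    revert t
    decide
  have h : dd (g ^ 3) v - dd g (dd g (dd g v)) = 3 • (g (g v) - g v) := by
    rw [pow_succ, pow_two]
    simp only [dd, LinearEquiv.mul_apply, map_sub]
    abel
  rw [h3] at h
  exact sub_eq_zero.1 h

theorem dd_sub (g : L) (u v : V) : dd g (u - v) = dd g u - dd g v := by
  simp only [dd, map_sub]
  abel

theorem dd_zero (g : L) : dd g 0 = 0 := by simp [dd]

theorem dd_comm {g x : L} (h : g * x = x * g) (v : V) : dd g (dd x v) = dd x (dd g v) := by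
  have h1 : ∀ w, g (x w) = x (g w) := fun w => LinearEquiv.congr_fun h w
  simp only [dd, map_sub, h1]
  abel

section

variable (a b c : ZMod 3)

/-- coordinates of `V / im (x - 1)` -/
def pr (v : V) : Fin 2 → ZMod 3 := ![v 5, v 2 + a * b * v 3 - (b + a * c) * v 4]

theorem pr_add (u v : V) : pr a b c (u + v) = pr a b c u + pr a b c v := by
  funext i
  fin_cases i <;> (simp [pr]; try ring)

theorem pr_sub (u v : V) : pr a b c (u - v) = pr a b c u - pr a b c v := by
  funext i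
  fin_cases i <;> (simp [pr]; try ring)

theorem pr_smul (r : ZMod 3) (u : V) : pr a b c (r • u) = r • pr a b c u := by
  funext i
  fin_cases i <;> (simp [pr]; try ring)

/-- lifts of the unit vectors -/
def ee : Fin 2 → V := ![![0, 0, 0, 0, 0, 1], ![0, 0, 1, 0, 0, 0]]

variable {a b}

theorem pr_dd (ha : a ≠ 0) (v : V) : pr a b c (dd (tl a b c) v) = 0 := by
  have ha2 : a ^ 2 = 1 := sq_eq_one ha
  have h3 : (3 : ZMod 3) = 0 := rfl
  funext i
  fin_cases i
  · simp [pr, dd, tf]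
  · simp only [pr, dd, tl_apply, tf, Pi.sub_apply, Pi.zero_apply]
    simp
    linear_combination (b * v 4) * ha2 + (b * v 4) * h3

theorem exists_dd (ha : a ≠ 0) (hb : b ≠ 0) (w : V) (hw : pr a b c w = 0) : ∃ v, w = dd (tl a b c) v := by
  have ha2 : a ^ 2 = 1 := sq_eq_one ha
  have hb2 : b ^ 2 = 1 := sq_eq_one hb
  have h3 : (3 : ZMod 3) = 0 := rfl
  have h5 : w 5 = 0 := by simpa [pr] using congrFun hw 0
  have h2 : w 2 + a * b * w 3 - (b + a * c) * w 4 = 0 := by simpa [pr] using congrFun hw 1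
  obtain ⟨v5, hv5⟩ : ∃ v, v = b * w 4 := ⟨_, rfl⟩
  obtain ⟨v4, hv4⟩ : ∃ v, v = a * (w 3 - c * v5) := ⟨_, rfl⟩
  obtain ⟨v3, hv3⟩ : ∃ v, v = b * (w 1 - c * v4 - a * b * v4 - b * c * v5) := ⟨_, rfl⟩
  obtain ⟨v1, hv1⟩ : ∃ v, v = 2 * a * (w 0 - 2 * c * v3 - 2 * a * c * v4 - c ^ 2 * v5) := ⟨_, rfl⟩
  have e4 : b * v5 = w 4 := by rw [hv5]; linear_combination (w 4) * hb2
  have e3 : a * v4 + c * v5 = w 3 := by rw [hv4]; linear_combination (w 3 - c * v5) * ha2
  have e1 : c * v4 + b * (v3 + a * v4 + c * v5) = w 1 := by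
    rw [hv3]; linear_combination (w 1 - c * v4 - a * b * v4 - b * c * v5) * hb2
  have e0 : 2 * a * v1 + 2 * c * v3 + 2 * a * c * v4 + c ^ 2 * v5 = w 0 := by
    rw [hv1]
    linear_combination (4 * (w 0 - 2 * c * v3 - 2 * a * c * v4 - c ^ 2 * v5)) * ha2 + (w 0 - 2 * c * v3 - 2 * a * c * v4 - c ^ 2 * v5) * h3
  have e2 : 2 * b * v4 + b ^ 2 * v5 = w 2 := by
    linear_combination (-1) * h2 + (-(a * b)) * e3 + (b + a * c) * e4 + (b * v4) * ha2 + (b * v4) * h3
  refine ⟨![0, v1, 0, v3, v4, v5], ?_⟩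
  funext i
  fin_cases i
  · simp [dd, tf]; rw [← e0]
  · simp [dd, tf]; rw [← e1]; ring
  · simp [dd, tf]; rw [← e2]
  · simp [dd, tf]; rw [← e3]; ring
  · simp [dd, tf]; rw [← e4]
  · simp [dd, tf, h5]

/-- the matrix of `g` on `V / im (x - 1)` -/
def mt (a b c : ZMod 3) (g : L) : Matrix (Fin 2) (Fin 2) (ZMod 3) := Matrix.of fun i j => pr a b c (g (ee j)) i

theorem pr_ee_zero : pr a b c (ee 0) = ![1, 0] := by simp [pr, ee]

theorem pr_ee_one : pr a b c (ee 1) = ![0, 1] := by simp [pr, ee]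

theorem pr_apply (ha : a ≠ 0) (hb : b ≠ 0) {g : L} (hg : g * tl a b c = tl a b c * g) (v : V) :
    pr a b c (g v) = mt a b c g *ᵥ pr a b c v := by
  set r := pr a b c v with hr
  have h1 : pr a b c (v - (r 0 • ee 0 + r 1 • ee 1)) = 0 := by
    rw [pr_sub, pr_add, pr_smul, pr_smul, pr_ee_zero, pr_ee_one, ← hr]
    funext i
    fin_cases i <;> simp
  obtain ⟨u, hu⟩ := exists_dd c ha hb _ h1
  have h2 : g (dd (tl a b c) u) = dd (tl a b c) (g u) := by
    have h : g (tl a b c u) = tl a b c (g u) := LinearEquiv.congr_fun hg u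
    simp only [dd, map_sub, h]
  have h3 : pr a b c (g v) - (r 0 • pr a b c (g (ee 0)) + r 1 • pr a b c (g (ee 1))) = 0 := by
    rw [← pr_smul, ← pr_smul, ← pr_add, ← pr_sub, ← map_smul, ← map_smul, ← map_add, ← map_sub, hu, h2]
    exact pr_dd c ha _
  rw [sub_eq_zero.1 h3]
  funext i
  simp [mt, Matrix.mulVec, dotProduct, Fin.sum_univ_two, mul_comm]

theorem mt_mul (ha : a ≠ 0) (hb : b ≠ 0) {g h : L} (hg : g * tl a b c = tl a b c * g) :
    mt a b c (g * h) = mt a b c g * mt a b c h := by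
  ext i j
  have h1 : pr a b c ((g * h) (ee j)) = mt a b c g *ᵥ pr a b c (h (ee j)) := pr_apply c ha hb hg _
  have h2 := congrFun h1 i
  simpa [mt, Matrix.mul_apply, Matrix.mulVec, dotProduct] using h2

theorem mt_one : mt a b c 1 = 1 := by
  ext i j
  fin_cases i <;> fin_cases j <;> simp [mt, pr, ee]

end

/-- a linear relation for unipotent matrices -/
theorem unip (p q r s l m : ZMod 3) (h0 : ¬ (l = 0 ∧ m = 0)) (h1 : l * p + m * r = l) (h2 : l * q + m * s = m)
    (h3 : p * s - q * r = 1) : (p - 1) * (p - 1) + q * r = 0 ∧ (p - 1) * q + q * (s - 1) = 0 ∧ r * (p - 1) + (s - 1) * r = 0 ∧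
      r * q + (s - 1) * (s - 1) = 0 := by
  have hd : (p - 1) * (s - 1) - q * r = 0 := by
    have e1 : l * ((p - 1) * (s - 1) - q * r) = 0 := by linear_combination (s - 1) * h1 - r * h2
    have e2 : m * ((p - 1) * (s - 1) - q * r) = 0 := by linear_combination (p - 1) * h2 - q * h1
    rcases mul_eq_zero.1 e1 with e1 | e1
    · rcases mul_eq_zero.1 e2 with e2 | e2
      · exact absurd ⟨e1, e2⟩ h0
      · exact e2
    · exact e1
  have ht : p + s - 2 = 0 := by linear_combination h3 - hd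
  refine ⟨?_, ?_, ?_, ?_⟩
  · linear_combination (p - 1) * ht - hd
  · linear_combination q * ht
  · linear_combination r * ht
  · linear_combination (s - 1) * ht - hd

theorem pow_three_pow (d : ZMod 3) (k : ℕ) : d ^ 3 ^ k = d := by
  induction k with
  | zero => simp
  | succ k ih =>
    rw [pow_succ, pow_mul, ih]
    clear ih
    revert d
    decide

theorem sub_one_sq {M : Matrix (Fin 2) (Fin 2) (ZMod 3)} {l : Fin 2 → ZMod 3} (hl : l ≠ 0) (h : l ᵥ* M = l)
    (hd : M.det = 1) : (M - 1) * (M - 1) = 0 := by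
  have h0 := congrFun h 0
  have h1 := congrFun h 1
  simp only [Matrix.vecMul, dotProduct, Fin.sum_univ_two] at h0 h1
  rw [Matrix.det_fin_two] at hd
  obtain ⟨e1, e2, e3, e4⟩ := unip (M 0 0) (M 0 1) (M 1 0) (M 1 1) (l 0) (l 1)
    (fun hh => hl (by funext i; fin_cases i; exacts [hh.1, hh.2])) h0 h1 hd
  ext i j
  fin_cases i <;> fin_cases j <;> simp [Matrix.mul_apply, Fin.sum_univ_two] <;> assumption

section

variable {a b c : ZMod 3} {C : Subgroup L}

/-- the homomorphism to the matrices -/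
def psi (ha : a ≠ 0) (hb : b ≠ 0) (hC : ∀ g ∈ C, g * tl a b c = tl a b c * g) : C →* Matrix (Fin 2) (Fin 2) (ZMod 3) where
  toFun g := mt a b c g
  map_one' := mt_one c
  map_mul' g _ := mt_mul c ha hb (hC g g.2)

theorem psi_apply (ha : a ≠ 0) (hb : b ≠ 0) (hC : ∀ g ∈ C, g * tl a b c = tl a b c * g) (g : C) (v : V) :
    pr a b c ((g : L) v) = psi ha hb hC g *ᵥ pr a b c v := pr_apply c ha hb (hC g g.2) v

variable (ha : a ≠ 0) (hb : b ≠ 0) (hC : ∀ g ∈ C, g * tl a b c = tl a b c * g)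

/-- the elements fixing the functional `l` and having determinant one -/
def SS (l : Fin 2 → ZMod 3) : Subgroup C where
  carrier := {g | l ᵥ* psi ha hb hC g = l ∧ (psi ha hb hC g).det = 1}
  mul_mem' := by
    rintro g h ⟨hg, hg'⟩ ⟨hh, hh'⟩
    refine ⟨?_, ?_⟩
    · rw [map_mul, ← Matrix.vecMul_vecMul, hg, hh]
    · rw [map_mul, Matrix.det_mul, hg', hh', mul_one]
  one_mem' := by
    refine ⟨?_, ?_⟩
    · rw [map_one, Matrix.vecMul_one]
    · rw [map_one, Matrix.det_one]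
  inv_mem' := by
    rintro g ⟨hg, hg'⟩
    have h1 : psi ha hb hC g * psi ha hb hC g⁻¹ = 1 := by rw [← map_mul, mul_inv_cancel, map_one]
    refine ⟨?_, ?_⟩
    · conv_lhs => rw [← hg]
      rw [Matrix.vecMul_vecMul, h1, Matrix.vecMul_one]
    · have h2 := congrArg Matrix.det h1
      rwa [Matrix.det_mul, hg', Matrix.det_one, one_mul] at h2

theorem isPGroup_SS {l : Fin 2 → ZMod 3} (hl : l ≠ 0) : IsPGroup 3 (SS ha hb hC l) := by
  rintro ⟨g, hg, hg'⟩
  have h1 := sub_one_sq hl hg hg'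
  have hcomm := hC g g.2
  have h2 : ∀ v, pr a b c (dd g v) = (psi ha hb hC g - 1) *ᵥ pr a b c v := by
    intro v
    rw [dd, pr_sub, psi_apply ha hb hC, Matrix.sub_mulVec, Matrix.one_mulVec]
  have h3 : ∀ v, ∃ u, dd g (dd g v) = dd (tl a b c) u := by
    intro v
    apply exists_dd c ha hb
    rw [h2, h2, Matrix.mulVec_mulVec, h1, Matrix.zero_mulVec]
  have hx3 : ∀ v, dd (tl a b c) (dd (tl a b c) (dd (tl a b c) v)) = 0 := by
    intro v
    rw [← dd_cube, pow_three_of_mem_T ⟨a, b, c, rfl⟩]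
    simp [dd]
  have h6 : ∀ v, dd g (dd g (dd g (dd g (dd g (dd g v))))) = 0 := by
    intro v
    obtain ⟨u, hu⟩ := h3 v
    obtain ⟨u', hu'⟩ := h3 u
    obtain ⟨u'', hu''⟩ := h3 u'
    rw [hu, dd_comm hcomm, dd_comm hcomm, hu', dd_comm hcomm, dd_comm hcomm, dd_comm hcomm, dd_comm hcomm, hu'', hx3]
  refine ⟨2, ?_⟩
  apply Subtype.ext
  apply Subtype.ext
  show (g : L) ^ (3 ^ 2) = 1
  refine LinearEquiv.ext fun v => ?_
  have h9 : dd ((g : L) ^ (3 ^ 2)) v = 0 := by
    rw [show (3 : ℕ) ^ 2 = 3 * 3 from rfl, pow_mul]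
    simp only [dd_cube, h6, dd_zero]
  exact sub_eq_zero.1 h9

/-- the four lines -/
def rp : Fin 4 → Fin 2 → ZMod 3 := ![![0, 1], ![1, 0], ![1, 1], ![1, 2]]

theorem rp_ne_zero (i : Fin 4) : rp i ≠ 0 := by revert i; decide

theorem exists_rp : ∀ l : Fin 2 → ZMod 3, l ≠ 0 → ∃ i, rp i = l ∨ rp i = -l := by decide

theorem exists_le_SS (P : Subgroup C) (hP : IsPGroup 3 P) : ∃ i, P ≤ SS ha hb hC (rp i) := by
  let _ : MulAction P (Fin 2 → ZMod 3) :=
    { smul := fun g l => l ᵥ* psi ha hb hC ((g : C)⁻¹)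
      one_smul := fun l => by
        show l ᵥ* psi ha hb hC (((1 : P) : C)⁻¹) = l
        rw [OneMemClass.coe_one, inv_one, map_one, Matrix.vecMul_one]
      mul_smul := fun g h l => by
        show l ᵥ* psi ha hb hC (((g * h : P) : C)⁻¹) = (l ᵥ* psi ha hb hC ((h : C)⁻¹)) ᵥ* psi ha hb hC ((g : C)⁻¹)
        rw [Matrix.vecMul_vecMul, ← map_mul, Subgroup.coe_mul, mul_inv_rev] }
  have h0 : (0 : Fin 2 → ZMod 3) ∈ MulAction.fixedPoints P (Fin 2 → ZMod 3) := fun g => Matrix.zero_vecMul _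
  obtain ⟨l, hl, hl0⟩ := hP.exists_fixed_point_of_prime_dvd_card_of_fixed_point (Fin 2 → ZMod 3)
    (by simp) h0
  obtain ⟨i, hi⟩ := exists_rp l (Ne.symm hl0)
  refine ⟨i, fun g hg => ⟨?_, ?_⟩⟩
  · have h1 : l ᵥ* psi ha hb hC g = l := by
      have := hl ⟨g⁻¹, inv_mem hg⟩
      have h2 : l ᵥ* psi ha hb hC ((g⁻¹)⁻¹) = l := this
      rwa [inv_inv] at h2
    rcases hi with hi | hi
    · rw [hi, h1]
    · rw [hi, Matrix.neg_vecMul, h1]
  · obtain ⟨k, hk⟩ := hP ⟨g, hg⟩
    have h2 : g ^ 3 ^ k = 1 := by simpa using congrArg Subtype.val hk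
    have h3 : (psi ha hb hC g).det ^ 3 ^ k = 1 := by rw [← Matrix.det_pow, ← map_pow, h2, map_one, Matrix.det_one]
    rwa [pow_three_pow] at h3

include ha hb hC in
theorem card_sylow : Nat.card (Sylow 3 C) = 1 ∨ Nat.card (Sylow 3 C) = 4 := by
  have h1 : ∀ P : Sylow 3 C, ∃ i, (P : Subgroup C) ≤ SS ha hb hC (rp i) := fun P => exists_le_SS ha hb hC P P.2
  choose f hf using h1
  have hinj : Function.Injective f := by
    intro P Q h
    have e1 := P.3 (isPGroup_SS ha hb hC (rp_ne_zero (f P))) (hf P)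
    have e2 := Q.3 (isPGroup_SS ha hb hC (rp_ne_zero (f Q))) (hf Q)
    apply Sylow.ext
    rw [← e1, ← e2, h]
  have h2 : Nat.card (Sylow 3 C) ≤ 4 := by
    have := Nat.card_le_card_of_injective f hinj
    simpa using this
  have h3 : Nat.card (Sylow 3 C) ≡ 1 [MOD 3] := card_sylow_modEq_one 3 C
  have h4 : Nat.card (Sylow 3 C) % 3 = 1 := h3
  omega

end

/-- a group centralising a regular element of `T` has one or four Sylow 3-subgroups -/
theorem reg (x : L) (hx : x ∈ T) (h1 : x ∉ U1) (h2 : x ∉ U2) (C : Subgroup L) (hC : ∀ g ∈ C, g * x = x * g)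
    (_h3 : 3 ∣ Nat.card C) : Nat.card (Sylow 3 C) = 1 ∨ Nat.card (Sylow 3 C) = 4 := by
  obtain ⟨a, b, c, rfl⟩ := hx
  have ha : a ≠ 0 := by
    rintro rfl
    exact h1 ⟨b, c, rfl⟩
  have hb : b ≠ 0 := by
    rintro rfl
    exact h2 ⟨a, c, rfl⟩
  exact card_sylow ha hb hC

end Cfsg.Agent.H447.Co
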